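import Groth.Agent.H1DFun.FinLCSplit
import Groth.Agent.H05EGA4.EtH90.Class

/-!
Degree one classes with finite locally constant coefficients die on finite étale covers.
-/

set_option autoImplicit false
set_option linter.style.haveILetI false
set_option backward.isDefEq.respectTransparency false
set_option backward.isDefEq.respectTransparency.types false

universe u

open CategoryTheory CategoryTheory.Limits AlgebraicGeometry Opposite Abelian

namespace Groth.Agent.H18H1Kill

variable {X : Scheme.{u}}

/-- An epimorphism of finite locally constant sheaves lifts a global section over a finite étale cover. -/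
theorem exists_cover_lift {E C : EtCoh.Ab X} (hE : EtCoh.IsFiniteLocallyConstant E)
    (hC : EtCoh.IsFiniteLocallyConstant C) (q : E ⟶ C) [Epi q] (c : C.obj.obj (op (EtCoh.top X))) :
    ∃ (W : X.Etale) (ρ : W ⟶ EtCoh.top X) (e : E.obj.obj (op W)),
      IsFinite W.hom ∧ Surjective W.hom ∧ q.hom.app (op W) e = C.obj.map ρ.op c := by
  obtain ⟨UE, hUEf, ⟨α⟩⟩ := H9Et.LccRep.exists_representable_of_isFiniteLocallyConstant E hE
  obtain ⟨UC, hUCf, ⟨β⟩⟩ := H9Et.LccRep.exists_representable_of_isFiniteLocallyConstant C hC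
  let tE : E.obj.obj (op UE) := α.inv.app (op UE) ⟨𝟙 UE⟩
  let m : UE ⟶ UC := (β.hom.app (op UE) (q.hom.app (op UE) tE)).down
  have hval : ∀ (W : X.Etale) (g : W ⟶ UE),
      (β.hom.app (op W) (q.hom.app (op W) (E.obj.map g.op tE))).down = g ≫ m := fun W g => by
    refine (congrArg ULift.down (congrArg (β.hom.app (op W)) (NatTrans.naturality_apply q.hom g.op tE))).trans ?_
    exact congrArg ULift.down (NatTrans.naturality_apply β.hom g.op (q.hom.app (op UE) tE))
  have hrep : ∀ (W : X.Etale) (e : E.obj.obj (op W)), ∃ g : W ⟶ UE, E.obj.map g.op tE = e := fun W e => by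
    refine ⟨(α.hom.app (op W) e).down, ?_⟩
    have h := (NatTrans.naturality_apply α.inv ((α.hom.app (op W) e).down).op
      (show (yoneda.obj UE ⋙ uliftFunctor.{u + 1}).obj (op UE) from ⟨𝟙 UE⟩)).symm
    refine h.trans ?_
    have h2 : (yoneda.obj UE ⋙ uliftFunctor.{u + 1}).map ((α.hom.app (op W) e).down).op ⟨𝟙 UE⟩ =
        α.hom.app (op W) e := ULift.ext _ _ (by exact Category.comp_id ((α.hom.app (op W) e).down))
    rw [h2]
    exact congrArg (fun k => k.app (op W) e) α.hom_inv_id
  haveI : Surjective m.left := by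
    refine ⟨fun w => ?_⟩
    let tC : C.obj.obj (op UC) := β.inv.app (op UC) ⟨𝟙 UC⟩
    obtain ⟨V, h, v, t, hv, ht⟩ := H1DFun.exists_nbhd_lift q UC tC w
    obtain ⟨g, rfl⟩ := hrep V t
    have h1 : g ≫ m = h := by
      rw [← hval V g, ht]
      refine (congrArg ULift.down (NatTrans.naturality_apply β.hom h.op tC)).trans ?_
      rw [show β.hom.app (op UC) tC = ⟨𝟙 UC⟩ from congrArg (fun k : (yoneda.obj UC ⋙ uliftFunctor.{u + 1}) ⟶ (yoneda.obj UC ⋙ uliftFunctor.{u + 1}) =>
        k.app (op UC) (ULift.up (𝟙 UC))) β.inv_hom_id]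
      exact Category.comp_id h
    exact ⟨g.left v, by rw [← hv, ← h1]; rfl⟩
  haveI : Etale UC.hom := UC.prop
  haveI : Etale UE.hom := UE.prop
  haveI : IsFinite m.left := by
    haveI : IsFinite (m.left ≫ UC.hom) := by rw [MorphismProperty.Over.w m]; exact hUEf
    haveI := hUCf
    exact IsFinite.of_comp m.left UC.hom
  haveI : Etale m.left := by
    haveI : Etale (m.left ≫ UC.hom) := by rw [MorphismProperty.Over.w m]; infer_instance
    exact Etale.of_comp m.left UC.hom
  let g : EtCoh.top X ⟶ UC := (β.hom.app (op (EtCoh.top X)) c).down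
  let p : pullback m.left g.left ⟶ X := pullback.snd m.left g.left
  haveI : Etale p := MorphismProperty.pullback_snd (P := @Etale) _ _ inferInstance
  haveI : IsFinite p := MorphismProperty.pullback_snd (P := @IsFinite) _ _ inferInstance
  haveI : Surjective p := MorphismProperty.pullback_snd (P := @Surjective) _ _ inferInstance
  let W : X.Etale := MorphismProperty.Over.mk ⊤ p inferInstance
  let ρ : W ⟶ EtCoh.top X := MorphismProperty.Over.homMk p (Category.comp_id _) trivial
  let l : W ⟶ UE := MorphismProperty.Over.homMk (pullback.fst m.left g.left) (by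
    rw [← MorphismProperty.Over.w m, pullback.condition_assoc, MorphismProperty.Over.w g]
    exact Category.comp_id _) trivial
  have hl : l ≫ m = ρ ≫ g := MorphismProperty.Over.Hom.ext (by
    show pullback.fst m.left g.left ≫ m.left = pullback.snd m.left g.left ≫ g.left
    exact pullback.condition)
  refine ⟨W, ρ, E.obj.map l.op tE, ‹IsFinite p›, ‹Surjective p›, ?_⟩
  have hb : Function.Injective (β.hom.app (op W)) :=
    Function.LeftInverse.injective (g := β.inv.app (op W))
      fun x => congrArg (fun k => k.app (op W) x) β.hom_inv_id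
  refine hb (ULift.ext _ _ ((hval _ l).trans (hl.trans ?_)))
  exact (congrArg ULift.down (NatTrans.naturality_apply β.hom ρ.op c)).symm

theorem exists_finite_etale_Hpull_eq_zero (F : EtCoh.Ab X) (hF : EtCoh.IsFiniteLocallyConstant F)
    (n : ℕ) (hn : 0 < n) (hFn : n • (𝟙 F) = 0) (ζ : EtCoh.H X F 1) :
    ∃ (Y' : Scheme.{u}) (g : Y' ⟶ X), IsFinite g ∧ Etale g ∧ Surjective g ∧
      ∀ [PreservesFiniteLimits (EtCoh.pull g)], EtCore.Hpull g F 1 ζ = 0 := by
  haveI : NeZero n := ⟨hn.ne'⟩
  let I := Injective.under F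
  let i : F ⟶ I := Injective.ι F
  let q : I ⟶ cokernel i := cokernel.π i
  have hS : (ShortComplex.mk i q (cokernel.condition i)).ShortExact :=
    { exact := ShortComplex.exact_cokernel _, mono_f := inferInstanceAs (Mono (Injective.ι F)),
      epi_g := inferInstanceAs (Epi (cokernel.π i)) }
  obtain ⟨s, rfl⟩ := H05EGA4.EtH90.delta_surjective hS ζ
  have hns : H05EGA4.EtH90.delta hS (n • s) = 0 := by
    rw [map_nsmul]
    generalize H05EGA4.EtH90.delta hS s = ξ
    have h : ξ.comp (Ext.mk₀ (n • 𝟙 F)) (add_zero 1) = n • ξ := by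
      rw [H1DFun.mk₀_nsmul, H1DFun.comp_nsmul', Ext.comp_mk₀_id]
    rw [← h, hFn, Ext.mk₀_zero, Ext.comp_zero]
  obtain ⟨r, hr⟩ := (H05EGA4.EtH90.delta_eq_zero_iff hS _).1 hns
  obtain ⟨t, ht⟩ := H1DFun.exists_sect_zsmul I (n : ℤ) (by exact_mod_cast hn.ne') (EtCoh.top X) r
  have ht' : n • t = r := ((natCast_zsmul t n).symm.trans rfl).trans ht
  let s' := s - q.hom.app (op (EtCoh.top X)) t
  have hs' : n • s' = 0 := by rw [nsmul_sub, ← map_nsmul, ht', hr, sub_self]
  have hδ : H05EGA4.EtH90.delta hS s' = H05EGA4.EtH90.delta hS s := by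
    rw [map_sub, (H05EGA4.EtH90.delta_eq_zero_iff hS _).2 ⟨t, rfl⟩, sub_zero]
  rw [← hδ]
  obtain ⟨φ, one, hone⟩ := H1DFun.exists_hom_const_zmod n s' hs'
  haveI : Epi q := inferInstanceAs (Epi (cokernel.π i))
  let E : EtCoh.Ab X := pullback q φ
  let ι : F ⟶ E := pullback.lift i 0 (by rw [cokernel.condition, zero_comp])
  let Sh : ShortComplex (EtCoh.Ab X) := ShortComplex.mk ι (pullback.snd q φ) (pullback.lift_snd _ _ _)
  have hSh : Sh.ShortExact := by
    haveI : Mono ι := by
      haveI : Mono (ι ≫ pullback.fst q φ) := by rw [pullback.lift_fst]; exact hS.mono_f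
      exact mono_of_mono ι (pullback.fst q φ)
    refine ShortComplex.ShortExact.mk' (ShortComplex.exact_of_f_is_kernel _ ?_) ‹Mono ι›
      (inferInstanceAs (Epi (pullback.snd q φ)))
    refine KernelFork.IsLimit.ofι _ _ (fun {W} a ha => hS.fIsKernel.lift (KernelFork.ofι (a ≫ pullback.fst q φ)
      (by rw [Category.assoc, pullback.condition, ← Category.assoc, ha, zero_comp]))) (fun {W} a ha => ?_)
      (fun {W} a ha b hb => (cancel_mono ι).1 (hb.trans ?_))
    all_goals refine pullback.hom_ext ?_ ?_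
    · rw [Category.assoc, pullback.lift_fst]
      exact hS.fIsKernel.fac _ WalkingParallelPair.zero
    · rw [Category.assoc, pullback.lift_snd, comp_zero, ha]
    · rw [Category.assoc, pullback.lift_fst]
      exact (hS.fIsKernel.fac (KernelFork.ofι (a ≫ pullback.fst q φ) (by
        rw [Category.assoc, pullback.condition, ← Category.assoc, ha, zero_comp])) WalkingParallelPair.zero).symm
    · rw [Category.assoc, pullback.lift_snd, comp_zero, ha]
  haveI : Finite (ULift.{u + 1} (ZMod n)) := inferInstance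
  have hC : EtCoh.IsFiniteLocallyConstant (EtCoh.const X (ZMod n)) := H18Et.LC.isFiniteLocallyConstant_const _
  have hE : EtCoh.IsFiniteLocallyConstant E :=
    (S6645.result X).2.prop_X₂_of_shortExact hSh hF hC
  haveI : Epi (pullback.snd q φ) := hSh.epi_g
  obtain ⟨W, ρ, e, hfin, hsurj, he⟩ := exists_cover_lift hE hC (pullback.snd q φ) one
  haveI : Etale W.hom := W.prop
  refine ⟨W.left, W.hom, hfin, inferInstance, hsurj, ?_⟩
  intro hP
  let j : W.left ⟶ X := W.hom
  haveI : PreservesFiniteLimits (EtCoh.pull j) := hP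
  let a : H18Et.FreeSheaf.obj j ⟶ W := MorphismProperty.Over.homMk (𝟙 _) (Category.id_comp _) trivial
  let ρ' : H18Et.FreeSheaf.obj j ⟶ EtCoh.top X := (EtCore.topIsTerminal X).from _
  refine H05EGA4.EtH90.Hpull_delta_eq_zero hS j s'
    ((H18Et.FreeSheaf.sec j I).symm (I.obj.map a.op ((pullback.fst q φ).hom.app (op W) e))) ?_
  refine (H18Et.FreeSheaf.sec j (cokernel i)).injective ?_
  rw [H18Et.FreeSheaf.sec_comp, H18Et.FreeSheaf.sec_Hpull j (cokernel i) ρ', AddEquiv.apply_symm_apply,
    AddEquiv.apply_symm_apply]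
  refine (NatTrans.naturality_apply q.hom a.op ((pullback.fst q φ).hom.app (op W) e)).trans ?_
  have h1 : q.hom.app (op W) ((pullback.fst q φ).hom.app (op W) e) =
      φ.hom.app (op W) ((pullback.snd q φ).hom.app (op W) e) :=
    congrArg (fun k => k.hom.app (op W) e) (pullback.condition (f := q) (g := φ))
  have h2 : φ.hom.app (op W) ((EtCoh.const X (ZMod n)).obj.map ρ.op one) =
      (cokernel i).obj.map ρ.op s' :=
    (NatTrans.naturality_apply φ.hom ρ.op one).trans (congrArg ((cokernel i).obj.map ρ.op) hone)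
  refine (congrArg ((cokernel i).obj.map a.op) (h1.trans ((congrArg (φ.hom.app (op W)) he).trans h2))).trans ?_
  rw [show ρ' = a ≫ ρ from (EtCore.topIsTerminal X).hom_ext _ _, op_comp, Functor.map_comp]
  rfl

end Groth.Agent.H18H1Kill
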